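import Mathlib
import Cfsg.Agent.H84.Invariant
import Cfsg.Agent.H80.Rank2Act
import Cfsg.Agent.H79.CubeExtraspecial

/-!
Abstract 11-local lemmas for groups of the order of J₄ (S5575): if `U` has order 11³, exponent 11,
centre of order 11, no small prime element has centralizer divisible by 11³ and no involution
centralizes an element of order 23, 29, 31, 37, 43, then `N(U)` has order `240·11³` as soon as it
contains a four-group and has order divisible by 240.
-/

set_option autoImplicit false

namespace H4.J4Eleven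

open Subgroup

variable {G : Type*} [Group G] [Finite G]

/-- The order of J₄. -/
abbrev ord : ℕ := 2 ^ 21 * 3 ^ 3 * 5 * 7 * 11 ^ 3 * 23 * 29 * 31 * 37 * 43

theorem prime_cases {q : ℕ} (hq : q.Prime) (h : q ∣ ord) :
    q = 2 ∨ q = 3 ∨ q = 5 ∨ q = 7 ∨ q = 11 ∨ q = 23 ∨ q = 29 ∨ q = 31 ∨ q = 37 ∨ q = 43 := by
  have key : ∀ {r k : ℕ}, r.Prime → q ∣ r ^ k → q = r := fun hr hk =>
    (Nat.prime_dvd_prime_iff_eq hq hr).1 (hq.dvd_of_dvd_pow hk)
  have key1 : ∀ {r : ℕ}, r.Prime → q ∣ r → q = r := fun hr hk =>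
    (Nat.prime_dvd_prime_iff_eq hq hr).1 hk
  simp only [ord, hq.dvd_mul] at h
  rcases h with ((((((((h | h) | h) | h) | h) | h) | h) | h) | h) | h
  · simp [key (by norm_num) h]
  · simp [key (by norm_num) h]
  · simp [key1 (by norm_num) h]
  · simp [key1 (by norm_num) h]
  · simp [key (by norm_num) h]
  · simp [key1 (by norm_num) h]
  · simp [key1 (by norm_num) h]
  · simp [key1 (by norm_num) h]
  · simp [key1 (by norm_num) h]
  · simp [key1 (by norm_num) h]

/-- An `11`-subgroup normalizing `U` lies in `U`. -/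
theorem pgroup_le (hG : Nat.card G = ord) {U R : Subgroup G} (hU : Nat.card U = 11 ^ 3)
    (hR : IsPGroup 11 R) (hn : R ≤ normalizer (U : Set G)) : R ≤ U := by
  have : Fact (Nat.Prime 11) := ⟨by norm_num⟩
  have hp : IsPGroup 11 U := IsPGroup.of_card hU
  have hs := hR.to_sup_of_normal_right' hp hn
  obtain ⟨k, hk⟩ := IsPGroup.iff_card.1 hs
  have hd : 11 ^ k ∣ ord := hG ▸ hk ▸ card_subgroup_dvd_card _
  have hk3 : k ≤ 3 := by
    by_contra hc
    have h4 : 11 ^ 4 ∣ ord := dvd_trans (pow_dvd_pow 11 (by omega : 4 ≤ k)) hd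
    revert h4; decide +kernel
  have hle : Nat.card ↥(R ⊔ U) ≤ Nat.card U := by
    rw [hk, hU]; exact Nat.pow_le_pow_right (by norm_num) hk3
  exact (eq_of_le_of_card_ge (le_sup_right : U ≤ R ⊔ U) hle) ▸ le_sup_left

omit [Finite G] in
/-- A four-group acting on a group of prime order has an involution centralizing it. -/
theorem four_centralizes {q : ℕ} (hq : q.Prime) {s a b : G} (hs : orderOf s = q)
    (ha : a * a = 1) (hb : b * b = 1) (hab : Commute a b) (ha1 : a ≠ 1) (hb1 : b ≠ 1)
    (hne : a ≠ b) (hsa : a * s * a⁻¹ ∈ zpowers s) (hsb : b * s * b⁻¹ ∈ zpowers s) :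
    ∃ v : G, orderOf v = 2 ∧ Commute v s := by
  have : Fact q.Prime := ⟨hq⟩
  have ord2 : ∀ v : G, v * v = 1 → v ≠ 1 → orderOf v = 2 := fun v h h1 =>
    orderOf_eq_prime (by rw [pow_two, h]) h1
  have key : ∀ v : G, v * v = 1 → v * s * v⁻¹ ∈ zpowers s →
      v * s * v⁻¹ = s ∨ v * s * v⁻¹ = s⁻¹ := by
    intro v hv hm
    obtain ⟨k, hk⟩ := mem_zpowers_iff.1 hm
    have h2 : (s ^ k) ^ k = s := by
      have := conj_zpow (a := v) (b := s) (i := k)
      rw [← hk] at this
      rw [this, hk]
      have hv' : v⁻¹ = v := inv_eq_of_mul_eq_one_left hv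
      rw [hv']
      calc v * (v * s * v) * v = (v * v) * s * (v * v) := by group
        _ = s := by rw [hv, one_mul, mul_one]
    have h3 : s ^ (k * k - 1) = 1 := by rw [zpow_sub, zpow_mul, h2, zpow_one, mul_inv_cancel]
    have h4 : (q : ℤ) ∣ (k - 1) * (k + 1) := by
      have h5 := orderOf_dvd_iff_zpow_eq_one.2 h3
      rw [hs] at h5
      have h6 : (k - 1) * (k + 1) = k * k - 1 := by ring
      rwa [h6]
    rcases (Nat.prime_iff_prime_int.1 hq).dvd_mul.1 h4 with h | h
    · left
      rw [← hk]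
      have h' : s ^ (k - 1) = 1 := orderOf_dvd_iff_zpow_eq_one.1 (by rwa [hs])
      rwa [zpow_sub_one, mul_inv_eq_one] at h'
    · right
      rw [← hk]
      have h' : s ^ (k + 1) = 1 := orderOf_dvd_iff_zpow_eq_one.1 (by rwa [hs])
      rw [zpow_add_one] at h'
      exact eq_inv_of_mul_eq_one_left h'
  rcases key a ha hsa with hA | hA
  · exact ⟨a, ord2 a ha ha1, by rwa [mul_inv_eq_iff_eq_mul] at hA⟩
  rcases key b hb hsb with hB | hB
  · exact ⟨b, ord2 b hb hb1, by rwa [mul_inv_eq_iff_eq_mul] at hB⟩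
  refine ⟨a * b, ord2 _ ?_ ?_, ?_⟩
  · calc a * b * (a * b) = a * (b * a) * b := by group
      _ = a * (a * b) * b := by rw [hab.eq]
      _ = (a * a) * (b * b) := by group
      _ = 1 := by rw [ha, hb, one_mul]
  · intro h
    exact hne (by rw [← inv_eq_of_mul_eq_one_left hb]; exact eq_inv_of_mul_eq_one_left h)
  · have h1 : a * b * s * (a * b)⁻¹ = s := by
      calc a * b * s * (a * b)⁻¹ = a * (b * s * b⁻¹) * a⁻¹ := by group
        _ = (a * s * a⁻¹)⁻¹ := by rw [hB]; group
        _ = s := by rw [hA, inv_inv]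
    exact mul_inv_eq_iff_eq_mul.1 h1

/-- `C(U) ≤ U` under the centralizer hypotheses. -/
theorem centralizer_le (hG : Nat.card G = ord) {U : Subgroup G} (hU : Nat.card U = 11 ^ 3)
    (hsmall : ∀ (q : ℕ) (x : G), q ∈ [2, 3, 5, 7] → orderOf x = q →
      ¬ 11 ^ 3 ∣ Nat.card (centralizer ({x} : Set G)))
    (hbig : ∀ (q : ℕ) (x t : G), q ∈ [23, 29, 31, 37, 43] → orderOf x = q → orderOf t = 2 →
      ¬ Commute t x)
    {a b : G} (ha : a ∈ normalizer (U : Set G)) (hb : b ∈ normalizer (U : Set G))
    (ha2 : a * a = 1) (hb2 : b * b = 1) (hab : Commute a b) (ha1 : a ≠ 1) (hb1 : b ≠ 1)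
    (hne : a ≠ b) : centralizer (U : Set G) ≤ U := by
  classical
  have : Fact (Nat.Prime 2) := ⟨by norm_num⟩
  have : Fact (Nat.Prime 11) := ⟨by norm_num⟩
  set C : Subgroup G := centralizer (U : Set G) with hC
  have small : ∀ q ∈ [2, 3, 5, 7], q.Prime → ¬ q ∣ Nat.card C := by
    intro q hq hqp hd
    have : Fact q.Prime := ⟨hqp⟩
    obtain ⟨x, hx⟩ := exists_prime_orderOf_dvd_card' (G := C) q hd
    refine hsmall q x hq (by rwa [orderOf_coe]) ?_
    rw [← hU]
    refine card_dvd_of_le fun u hu => mem_centralizer_singleton_iff.2 ?_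
    exact (x.2 u hu)
  have big : ∀ q ∈ [23, 29, 31, 37, 43], q.Prime → ¬ q ∣ Nat.card C := by
    intro q hq hqp hd
    have : Fact q.Prime := ⟨hqp⟩
    let V : Subgroup G :=
      { carrier := {g | g = 1 ∨ g = a ∨ g = b ∨ g = a * b}
        one_mem' := Or.inl rfl
        mul_mem' := by
          have e1 : b * a = a * b := hab.eq.symm
          have e2 : a * (a * b) = b := by rw [← mul_assoc, ha2, one_mul]
          have e3 : b * (a * b) = a := by rw [← mul_assoc, e1, mul_assoc, hb2, mul_one]
          have e4 : a * b * a = b := by rw [mul_assoc, e1, e2]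
          have e5 : a * b * b = a := by rw [mul_assoc, hb2, mul_one]
          have e6 : a * b * (a * b) = 1 := by rw [← mul_assoc, e4, hb2]
          rintro x y (rfl | rfl | rfl | rfl) (rfl | rfl | rfl | rfl) <;>
            simp [ha2, hb2, e1, e2, e3, e4, e5, e6]
        inv_mem' := by
          have e1 : b * a = a * b := hab.eq.symm
          rintro x (rfl | rfl | rfl | rfl)
          · simp
          · exact Or.inr (Or.inl (inv_eq_of_mul_eq_one_left ha2))
          · exact Or.inr (Or.inr (Or.inl (inv_eq_of_mul_eq_one_left hb2)))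
          · refine Or.inr (Or.inr (Or.inr ?_))
            rw [mul_inv_rev, inv_eq_of_mul_eq_one_left ha2, inv_eq_of_mul_eq_one_left hb2, e1] }
    have hVp : IsPGroup 2 V := by
      rintro ⟨x, hx⟩
      refine ⟨1, Subtype.ext ?_⟩
      show x ^ 2 ^ 1 = 1
      rw [pow_one, pow_two]
      rcases hx with rfl | rfl | rfl | rfl
      · simp
      · exact ha2
      · exact hb2
      · calc a * b * (a * b) = a * (b * a) * b := by group
          _ = a * (a * b) * b := by rw [hab.eq]
          _ = (a * a) * (b * b) := by group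
          _ = 1 := by rw [ha2, hb2, one_mul]
    have hVN : V ≤ normalizer (U : Set G) := by
      rintro g (rfl | rfl | rfl | rfl)
      · exact one_mem _
      · exact ha
      · exact hb
      · exact mul_mem ha hb
    have hNC : normalizer (U : Set G) ≤ normalizer (C : Set G) := by
      intro g hg
      rw [mem_normalizer_iff]
      intro x
      constructor
      · intro hx u hu
        have h1 : g⁻¹ * u * g ∈ U := by
          have := (mem_normalizer_iff.1 (inv_mem hg) u).1 hu
          simpa using this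
        have h2 := hx _ h1
        calc u * (g * x * g⁻¹) = g * ((g⁻¹ * u * g) * x) * g⁻¹ := by group
          _ = g * (x * (g⁻¹ * u * g)) * g⁻¹ := by rw [h2]
          _ = g * x * g⁻¹ * u := by group
      · intro hx u hu
        have h1 : g * u * g⁻¹ ∈ U := (mem_normalizer_iff.1 hg u).1 hu
        have h2 := hx _ h1
        calc u * x = g⁻¹ * ((g * u * g⁻¹) * (g * x * g⁻¹)) * g := by group
          _ = g⁻¹ * ((g * x * g⁻¹) * (g * u * g⁻¹)) * g := by rw [h2]
          _ = x * u := by group
    obtain ⟨S, hS, hVS⟩ := H84.exists_inv_sylow (q := q) hVp (small 2 (by simp) (by norm_num))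
      (hVN.trans hNC)
    obtain ⟨P, hP⟩ := hS.exists_sylow
    have hq1 : q ∣ Nat.card S := by
      rw [← hP, card_map_of_injective C.subtype_injective]
      exact P.dvd_card_of_dvd_card hd
    obtain ⟨s, hs⟩ := exists_prime_orderOf_dvd_card' (G := S) q hq1
    obtain ⟨k, hk⟩ := IsPGroup.iff_card.1 (hS.2.1)
    have hk1 : k ≤ 1 := by
      by_contra hc
      have h4 : q ^ 2 ∣ ord :=
        dvd_trans (pow_dvd_pow q (by omega : 2 ≤ k)) (hG ▸ hk ▸ card_subgroup_dvd_card S)
      revert h4
      simp only [List.mem_cons, List.not_mem_nil, or_false] at hq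
      rcases hq with rfl | rfl | rfl | rfl | rfl <;> decide +kernel
    have hzs : zpowers (s : G) = S := by
      refine eq_of_le_of_card_ge (zpowers_le.2 s.2) ?_
      rw [Nat.card_zpowers, orderOf_coe, hs, hk]
      calc q ^ k ≤ q ^ 1 := Nat.pow_le_pow_right hqp.pos hk1
        _ = q := pow_one q
    have hconj : ∀ v ∈ V, v * (s : G) * v⁻¹ ∈ zpowers (s : G) := fun v hv => by
      rw [hzs]; exact (mem_normalizer_iff.1 (hVS hv) _).1 s.2
    obtain ⟨v, hv, hvs⟩ := four_centralizes hqp (s := (s : G)) (by rwa [orderOf_coe]) ha2 hb2 hab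
      ha1 hb1 hne (hconj a (Or.inr (Or.inl rfl))) (hconj b (Or.inr (Or.inr (Or.inl rfl))))
    exact hbig q _ v hq (by rwa [orderOf_coe]) hv hvs
  have hpg : IsPGroup 11 C := by
    obtain ⟨k, hk⟩ : ∃ k, Nat.card C = 11 ^ k := by
      refine ⟨(Nat.card C).factorization 11, ?_⟩
      have h0 : Nat.card C ≠ 0 := Nat.card_pos.ne'
      refine Nat.eq_pow_of_factorization_eq_single h0 ?_
      ext r
      by_cases hr : r = 11
      · simp [hr]
      rw [Finsupp.single_eq_of_ne hr]
      by_cases hrp : r.Prime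
      · refine Nat.factorization_eq_zero_of_not_dvd fun hd => ?_
        rcases prime_cases hrp (hd.trans (hG ▸ card_subgroup_dvd_card C)) with
          rfl | rfl | rfl | rfl | rfl | rfl | rfl | rfl | rfl | rfl
        · exact small 2 (by simp) hrp hd
        · exact small 3 (by simp) hrp hd
        · exact small 5 (by simp) hrp hd
        · exact small 7 (by simp) hrp hd
        · exact hr rfl
        · exact big 23 (by simp) hrp hd
        · exact big 29 (by simp) hrp hd
        · exact big 31 (by simp) hrp hd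
        · exact big 37 (by simp) hrp hd
        · exact big 43 (by simp) hrp hd
      · exact Nat.factorization_eq_zero_of_not_prime _ hrp
    exact IsPGroup.of_card hk
  exact pgroup_le hG hU hpg (centralizer_le_normalizer _)

/-- The automorphism of `U / Z(U)` induced by an automorphism of `U`. -/
noncomputable def quotAut {H : Type*} [Group H] : MulAut H →* MulAut (H ⧸ center H) where
  toFun e := QuotientGroup.congr (center H) (center H) e
    (Subgroup.characteristic_iff_map_eq.1 inferInstance e)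
  map_one' := MulEquiv.ext fun x => QuotientGroup.induction_on x fun _ => rfl
  map_mul' e f := MulEquiv.ext fun x => QuotientGroup.induction_on x fun _ => rfl

/-- The order of `N(U)`. -/
theorem card_normalizer_abstract (hG : Nat.card G = ord) {U : Subgroup G} (hU : Nat.card U = 11 ^ 3)
    (hexp : ∀ x ∈ U, x ^ 11 = 1) (hspec : Cfsg.IsExtraspecial 11 U)
    (hsmall : ∀ (q : ℕ) (x : G), q ∈ [2, 3, 5, 7] → orderOf x = q →
      ¬ 11 ^ 3 ∣ Nat.card (centralizer ({x} : Set G)))
    (hbig : ∀ (q : ℕ) (x t : G), q ∈ [23, 29, 31, 37, 43] → orderOf x = q → orderOf t = 2 →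
      ¬ Commute t x)
    (h240' : 240 ∣ Nat.card (normalizer (U : Set G)))
    {a b : G} (ha : a ∈ normalizer (U : Set G)) (hb : b ∈ normalizer (U : Set G))
    (ha2 : a * a = 1) (hb2 : b * b = 1) (hab : Commute a b) (ha1 : a ≠ 1) (hb1 : b ≠ 1)
    (hne : a ≠ b) :
    Nat.card (normalizer (U : Set G)) = 2 ^ 4 * 3 * 5 * 11 ^ 3 := by
  classical
  have : Fact (Nat.Prime 11) := ⟨by norm_num⟩
  have hZ : Nat.card (center U) = 11 := hspec.2
  have hcen := centralizer_le hG hU hsmall hbig ha hb ha2 hb2 hab ha1 hb1 hne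
  set N : Subgroup G := normalizer (U : Set G) with hN
  have hq : Nat.card (U ⧸ center U) = 11 ^ 2 := by
    have h := Subgroup.card_eq_card_quotient_mul_card_subgroup (center U)
    rw [hU, hZ] at h
    omega
  have : IsMulCommutative (U ⧸ center U) := IsPGroup.isMulCommutative_of_card_eq_prime_sq hq
  letI : CommGroup (U ⧸ center U) :=
    { (inferInstance : Group (U ⧸ center U)) with mul_comm := fun x y => mul_comm' x y }
  obtain ⟨f, hf⟩ := H80.mulAut_embeds_gl2_of_card_sq (V := U ⧸ center U) (p := 11)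
    (fun x => QuotientGroup.induction_on x fun u => by
      rw [← QuotientGroup.mk_pow, show u ^ 11 = 1 from Subtype.ext (hexp u u.2)]
      rfl) hq
  let φ : N →* MulAut (U ⧸ center U) := quotAut.comp U.normalizerMonoidHom
  let ψ : N →* GL (Fin 2) (ZMod 11) := f.comp φ
  have hker : IsPGroup 11 ψ.ker := by
    intro g
    -- elements of order prime to 11 in the kernel centralise U
    obtain ⟨k, m, hm, hkm⟩ := Nat.exists_eq_pow_mul_and_not_dvd
      ((Nat.card_pos (α := zpowers (g : ↥N))).ne') 11 (by norm_num)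
    refine ⟨k, Subtype.ext ?_⟩
    set h : N := (g : ↥N) ^ (11 ^ k) with hh
    have hord : orderOf h ∣ m := by
      apply orderOf_dvd_of_pow_eq_one
      rw [hh, ← pow_mul, ← hkm, Nat.card_zpowers, pow_orderOf_eq_one]
    have hcop : Nat.Coprime (orderOf h) 11 :=
      Nat.Coprime.coprime_dvd_left hord
        (((by norm_num : Nat.Prime 11).coprime_iff_not_dvd.2 hm).symm)
    have hmem : h ∈ ψ.ker := pow_mem g.2 _
    have hφ : φ h = 1 := hf (by simpa [ψ] using hmem)
    -- h centralises U
    have htriv : ∀ u : U, ∃ z ∈ center U, U.normalizerMonoidHom h u = u * z := by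
      intro u
      refine ⟨u⁻¹ * U.normalizerMonoidHom h u, ?_, by group⟩
      have h1 := MulEquiv.congr_fun hφ (u : U ⧸ center U)
      exact QuotientGroup.eq.1 h1.symm
    set e : MulAut U := U.normalizerMonoidHom h with he
    have hfix : ∀ c ∈ commutator U, e c = c := by
      intro c hc
      rw [commutator_eq_closure] at hc
      induction hc using Subgroup.closure_induction with
      | mem c hc =>
        obtain ⟨x, y, rfl⟩ := mem_commutatorSet_iff.1 hc
        obtain ⟨z, hz, hxz⟩ := htriv x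
        obtain ⟨w, hw, hyw⟩ := htriv y
        rw [map_commutatorElement, hxz, hyw]
        have hz' : ∀ t, t * z = z * t := fun t => mem_center_iff.1 hz t
        have hw' : ∀ t, t * w = w * t := fun t => mem_center_iff.1 hw t
        simp only [commutatorElement_def, mul_inv_rev]
        calc x * z * (y * w) * (z⁻¹ * x⁻¹) * (w⁻¹ * y⁻¹)
            = x * ((z * (y * w)) * z⁻¹) * x⁻¹ * (w⁻¹ * y⁻¹) := by group
          _ = x * (y * w) * x⁻¹ * (w⁻¹ * y⁻¹) := by rw [← hz' (y * w), mul_inv_cancel_right]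
          _ = x * y * ((w * x⁻¹) * w⁻¹) * y⁻¹ := by group
          _ = x * y * x⁻¹ * y⁻¹ := by rw [← hw' x⁻¹, mul_inv_cancel_right]
      | one => simp
      | mul x y _ _ hx hy => simp [hx, hy]
      | inv x _ hx => simp [hx]
    have hcz : center U ≤ commutator U := by
      exact hspec.1.2.2.ge
    have hall : ∀ u : U, e u = u := by
      intro u
      obtain ⟨z, hz, huz⟩ := htriv u
      have hiter : ∀ n : ℕ, (e ^ n) u = u * z ^ n := by
        intro n
        induction n with
        | zero => simp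
        | succ n ih =>
          rw [pow_succ', MulAut.mul_apply, ih, map_mul, map_pow, huz, hfix z (hcz hz),
            mul_assoc, ← pow_succ']
      have hen : e ^ orderOf h = 1 := by rw [he, ← map_pow, pow_orderOf_eq_one, map_one]
      have h1 : z ^ orderOf h = 1 := by
        have := hiter (orderOf h)
        rw [hen, MulAut.one_apply] at this
        exact mul_left_cancel (this.symm.trans (mul_one u).symm)
      have h11 : z ^ 11 = 1 := Subtype.ext (hexp z z.2)
      have hz1 : z = 1 := by
        rw [← orderOf_eq_one_iff]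
        exact Nat.eq_one_of_dvd_coprimes hcop (orderOf_dvd_of_pow_eq_one h1)
          (orderOf_dvd_of_pow_eq_one h11)
      rw [huz, hz1, mul_one]
    have hcent : (h : G) ∈ centralizer (U : Set G) := by
      intro u hu
      have := congrArg Subtype.val (hall ⟨u, hu⟩)
      rw [he] at this
      change (h : G) * u * (h : G)⁻¹ = u at this
      exact (mul_inv_eq_iff_eq_mul.1 this).symm
    have h11 : h ^ 11 = 1 := Subtype.ext (hexp _ (hcen hcent))
    have : h = 1 := by
      rw [← orderOf_eq_one_iff]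
      exact Nat.eq_one_of_dvd_coprimes hcop dvd_rfl (orderOf_dvd_of_pow_eq_one h11)
    simpa [hh] using this
  have hGL : Nat.card (GL (Fin 2) (ZMod 11)) = 13200 := by
    rw [Matrix.card_GL_field, Fin.prod_univ_two, ZMod.card]
    norm_num
  obtain ⟨k, hk⟩ := IsPGroup.iff_card.1 hker
  have hdvd : Nat.card N ∣ 11 ^ k * 13200 := by
    rw [Subgroup.card_eq_card_quotient_mul_card_subgroup ψ.ker,
      Nat.card_congr (QuotientGroup.quotientKerEquivRange ψ).toEquiv, hk, mul_comm, ← hGL]
    exact Nat.mul_dvd_mul_left _ (card_subgroup_dvd_card _)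
  have hNG : Nat.card N ∣ ord := hG ▸ card_subgroup_dvd_card N
  have hUN : 11 ^ 3 ∣ Nat.card N := hU ▸ card_dvd_of_le le_normalizer
  obtain ⟨m, hm⟩ := hUN
  have hm11 : ¬ 11 ∣ m := by
    rintro ⟨j, rfl⟩
    have h4 : 11 ^ 4 ∣ ord := dvd_trans ⟨j, by rw [hm]; ring⟩ hNG
    revert h4; decide +kernel
  have hm1 : m ∣ 13200 := by
    have h1 : m ∣ 11 ^ k * 13200 := (dvd_mul_left m _).trans (hm ▸ hdvd)
    exact (Nat.Coprime.pow_right k
      ((Nat.Prime.coprime_iff_not_dvd (by norm_num)).2 hm11).symm).dvd_of_dvd_mul_left h1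
  have hm2 : m ∣ 2 ^ 21 * 3 ^ 3 * 5 * 7 * 23 * 29 * 31 * 37 * 43 := by
    have h1 : 11 ^ 3 * m ∣ 11 ^ 3 * (2 ^ 21 * 3 ^ 3 * 5 * 7 * 23 * 29 * 31 * 37 * 43) := by
      rw [← hm]; exact hNG.trans (dvd_of_eq (by norm_num [ord]))
    exact Nat.dvd_of_mul_dvd_mul_left (by norm_num) h1
  have hm240 : m ∣ 240 := (Nat.dvd_gcd hm1 hm2).trans (dvd_of_eq (by norm_num [Nat.gcd]))
  have h240 : 240 ∣ m := by
    have h1 : 240 ∣ 11 ^ 3 * m := hm ▸ h240'
    exact (Nat.Coprime.dvd_of_dvd_mul_left (by norm_num) h1)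
  rw [hm, Nat.dvd_antisymm hm240 h240]
  norm_num

end H4.J4Eleven
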